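import Cfsg.Agent.H800.ME.CoFacts
import Cfsg.Agent.BpSpor.MBigEleven
import Cfsg.Agent.MFive.KPair
import Cfsg.Agent.MFive.Fus

/-!
# S4114, row M: a real element of order eleven in the model of the Monster (helper544)

The proof is helper800's `hasReal_model` (`H800/ME/Final`), with fewer imports.
-/

set_option autoImplicit false

namespace Cfsg.Agent.H544.Ccp.MEleven

open Cfsg.Agent.BpSpor.MBigModel
open Cfsg.Agent.H800.ME.CoFacts (s t ts orderOf_s)
open Cfsg Cfsg.Agent.MonsterU

/-- some element of order 11 of the Monster is inverted -/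
theorem eleven : ∃ c g : MG, orderOf c = 11 ∧ g * c * g⁻¹ = c⁻¹ := by
  have prime11 : Nat.Prime 11 := by norm_num
  obtain ⟨x, hx, hpx⟩ : ∃ x : Subgroup.centralizer ({zz} : Set MG), orderOf x = 11 ∧ BpSpor.MBigModel.pi x = s :=
    MFive.KPair.exists_order chart prime11 (by decide) orderOf_s
  have hx11 : x ^ 11 = 1 := by rw [← hx, pow_orderOf_eq_one]
  obtain ⟨c, hc⟩ := MFive.exists_conj_of_conj chart prime11 (by decide) (x := x) (y := x⁻¹) hx11
    (by rw [inv_pow, hx11, inv_one]) (s := t) (by rw [hpx, map_inv, hpx]; exact ts)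
  exact ⟨x, c, by rw [Subgroup.orderOf_coe, hx], congrArg Subtype.val hc⟩

end Cfsg.Agent.H544.Ccp.MEleven
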